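import Groth.Agent.Red.K216.DecDef
import Mathlib.LinearAlgebra.RootSystem.Finite.Nondegenerate
import Mathlib.LinearAlgebra.RootSystem.Hom

/-!
# Decomposition of a simply connected root datum into two orthogonal pieces (node A of S16645)
-/

set_option autoImplicit false
set_option linter.unusedSectionVars false

namespace K332.DecDatum

open K216.DecDef Module

section half

variable {σ M : Type} [Fintype σ] [AddCommGroup M] [Module.Finite ℤ M] [Module.Free ℤ M]
  (P : RootPairing σ ℤ M (Module.Dual ℤ M)) (hP : P.toLinearMap = Module.Dual.eval ℤ M)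

/-- The common kernel of the coroots outside `I`. -/
def half (I : Set σ) : Submodule ℤ M := ⨅ b : (Iᶜ : Set σ), LinearMap.ker (P.coroot b)

theorem mem_half {I : Set σ} {m : M} : m ∈ half P I ↔ ∀ b, b ∉ I → P.coroot b m = 0 := by
  simp [half]

include hP in
theorem pairing_eq (a b : σ) : P.pairing a b = P.coroot b (P.root a) := by
  rw [← P.root_coroot_eq_pairing, hP]
  rfl

variable {I : Set σ} (hI : ∀ a b, a ∈ I → b ∉ I → P.pairing a b = 0)

include hP hI in
theorem root_mem {a : σ} (ha : a ∈ I) : P.root a ∈ half P I := by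
  rw [mem_half]
  intro b hb
  rw [← pairing_eq P hP]
  exact hI a b ha hb

include hI in
theorem hI' : ∀ a b, a ∈ Iᶜ → b ∉ Iᶜ → P.pairing a b = 0 := by
  intro a b ha hb
  rw [Set.mem_compl_iff, not_not] at hb
  exact P.pairing_eq_zero_iff'.1 (hI b a hb ha)

variable (hsc : Submodule.span ℤ (Set.range P.coroot) = ⊤)

include hsc in
theorem eq_zero_of_coroot {m : M} (h : ∀ a, P.coroot a m = 0) : m = 0 := by
  have h1 : ∀ x : Module.Dual ℤ M, x m = 0 := by
    intro x
    have hx : x ∈ Submodule.span ℤ (Set.range P.coroot) := by rw [hsc]; trivial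
    induction hx using Submodule.span_induction with
    | mem x hx => obtain ⟨a, rfl⟩ := hx; exact h a
    | zero => rfl
    | add x y _ _ hx hy => rw [LinearMap.add_apply, hx, hy, add_zero]
    | smul r x _ hx => rw [LinearMap.smul_apply, hx, smul_zero]
  exact (Module.forall_dual_apply_eq_zero_iff ℤ m).1 h1

include hP hI hsc in
theorem mem_iff {a : σ} : P.root a ∈ half P I ↔ a ∈ I := by
  refine ⟨fun h => ?_, root_mem P hP hI⟩
  by_contra ha
  have h1 := root_mem P hP (hI' P hI) (a := a) ha
  rw [mem_half] at h h1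
  refine P.ne_zero a (eq_zero_of_coroot P hsc fun b => ?_)
  by_cases hb : b ∈ I
  · exact h1 b (by simpa using hb)
  · exact h b hb

include hP in
/-- A functional in the span of the coroots killing all roots is zero. -/
theorem eq_zero_of_root (hsc : Submodule.span ℤ (Set.range P.coroot) = ⊤) {x : Module.Dual ℤ M}
    (h : ∀ a, x (P.root a) = 0) : x = 0 := by
  have h1 : x ∈ P.corootSpan ℤ := by
    change x ∈ Submodule.span ℤ (Set.range P.coroot)
    rw [hsc]; trivial
  have h2 : x ∈ LinearMap.ker P.CorootForm := by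
    rw [LinearMap.mem_ker]
    refine LinearMap.ext fun y => ?_
    rw [RootPairing.corootForm_apply_apply]
    refine Finset.sum_eq_zero fun a _ => ?_
    have : P.root' a x = 0 := by
      change P.toLinearMap (P.root a) x = 0
      rw [hP]
      exact h a
    rw [this, zero_mul]
  exact Submodule.disjoint_def.1 P.disjoint_corootSpan_ker_corootForm x h1 h2

include hP hI hsc in
/-- The component of a weight. -/
theorem exists_comp (m : M) : ∃ m₁ ∈ half P I, ∀ a ∈ I, P.coroot a m₁ = P.coroot a m := by
  set N₁ : Submodule ℤ (Module.Dual ℤ M) := Submodule.span ℤ (P.coroot '' I) with hN₁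
  set N₂ : Submodule ℤ (Module.Dual ℤ M) := Submodule.span ℤ (P.coroot '' Iᶜ) with hN₂
  have h1 : ∀ x ∈ N₁, ∀ b ∉ I, x (P.root b) = 0 := by
    intro x hx b hb
    induction hx using Submodule.span_induction with
    | mem x hx =>
      obtain ⟨a, ha, rfl⟩ := hx
      rw [← pairing_eq P hP]
      exact hI' P hI b a hb (by simpa using ha)
    | zero => rfl
    | add x y _ _ hx hy => rw [LinearMap.add_apply, hx, hy, add_zero]
    | smul r x _ hx => rw [LinearMap.smul_apply, hx, smul_zero]
  have h2 : ∀ x ∈ N₂, ∀ a ∈ I, x (P.root a) = 0 := by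
    intro x hx a ha
    induction hx using Submodule.span_induction with
    | mem x hx =>
      obtain ⟨b, hb, rfl⟩ := hx
      rw [← pairing_eq P hP]
      exact hI a b ha hb
    | zero => rfl
    | add x y _ _ hx hy => rw [LinearMap.add_apply, hx, hy, add_zero]
    | smul r x _ hx => rw [LinearMap.smul_apply, hx, smul_zero]
  have hc : IsCompl N₁ N₂ := by
    refine IsCompl.of_eq ?_ ?_
    · rw [eq_bot_iff]
      rintro x ⟨hx1, hx2⟩
      rw [Submodule.mem_bot]
      refine eq_zero_of_root P hP hsc fun a => ?_
      by_cases ha : a ∈ I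
      · exact h2 x hx2 a ha
      · exact h1 x hx1 a ha
    · rw [hN₁, hN₂, ← Submodule.span_union, ← Set.image_union, Set.union_compl_self, Set.image_univ, hsc]
  let f : Module.Dual ℤ (Module.Dual ℤ M) :=
    (Module.Dual.eval ℤ M m).comp (N₁.subtype.comp (N₁.projectionOnto N₂ hc))
  obtain ⟨m₁, hm₁⟩ := (Module.bijective_dual_eval ℤ M).2 f
  have hf : ∀ x : Module.Dual ℤ M, x m₁ = (N₁.projectionOnto N₂ hc x : Module.Dual ℤ M) m := fun x =>
    LinearMap.congr_fun hm₁ x
  refine ⟨m₁, (mem_half P).2 fun b hb => ?_, fun a ha => ?_⟩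
  · rw [hf, Submodule.projectionOnto_apply_of_mem_right]
    · rfl
    · exact Submodule.subset_span ⟨b, hb, rfl⟩
  · have ha' : P.coroot a ∈ N₁ := Submodule.subset_span ⟨a, ha, rfl⟩
    rw [hf, Submodule.projectionOnto_apply_of_mem_left hc ha']

include hP hI hsc in
theorem bijective_add : Function.Bijective
    (fun x : half P I × half P Iᶜ => (x.1 : M) + (x.2 : M)) := by
  constructor
  · have key : ∀ x : half P I × half P Iᶜ, (x.1 : M) + (x.2 : M) = 0 → x = 0 := by
      rintro ⟨⟨x, hx⟩, ⟨y, hy⟩⟩ h
      replace h : x + y = 0 := h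
      have hx0 : x = 0 := by
        refine eq_zero_of_coroot P hsc fun a => ?_
        by_cases ha : a ∈ I
        · have h1 : P.coroot a (x + y) = 0 := by rw [h, map_zero]
          rw [map_add, (mem_half P).1 hy a (by simpa using ha), add_zero] at h1
          exact h1
        · exact (mem_half P).1 hx a ha
      rw [hx0, zero_add] at h
      exact Prod.ext (Subtype.ext hx0) (Subtype.ext h)
    intro x x' h
    rw [← sub_eq_zero]
    apply key
    have h' : (x.1 : M) + (x.2 : M) = (x'.1 : M) + (x'.2 : M) := h
    have : ((x - x').1 : M) + ((x - x').2 : M) = ((x.1 : M) + (x.2 : M)) - ((x'.1 : M) + (x'.2 : M)) := by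
      simp only [Prod.fst_sub, Prod.snd_sub, Submodule.coe_sub]
      abel
    rw [this, h', sub_self]
  · intro m
    obtain ⟨m₁, h1, h2⟩ := exists_comp P hP hI hsc m
    refine ⟨⟨⟨m₁, h1⟩, ⟨m - m₁, (mem_half P).2 fun a ha => ?_⟩⟩, ?_⟩
    · rw [map_sub, h2 a (by simpa using ha), sub_self]
    · simp

/-- The decomposition of the weight lattice. -/
noncomputable def split : (half P I × half P Iᶜ) ≃ₗ[ℤ] M :=
  LinearEquiv.ofBijective ((half P I).subtype.coprod (half P Iᶜ).subtype) (bijective_add P hP hI hsc)

theorem split_apply (x : half P I × half P Iᶜ) : split P hP hI hsc x = (x.1 : M) + (x.2 : M) := rfl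

/-- The part of the root datum with roots in `I`. -/
noncomputable def sub : RootPairing I ℤ (half P I) (Module.Dual ℤ (half P I)) where
  toLinearMap := Module.Dual.eval ℤ (half P I)
  root := ⟨fun a => ⟨P.root a, root_mem P hP hI a.2⟩, fun a b h => by
    have := congrArg Subtype.val h
    exact Subtype.ext (P.root.injective this)⟩
  coroot := ⟨fun a => (P.coroot a).comp (half P I).subtype, fun a b h => by
    refine Subtype.ext (P.coroot.injective (LinearMap.ext fun m => ?_))
    obtain ⟨⟨x, y⟩, rfl⟩ := (split P hP hI hsc).surjective m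
    have h1 := LinearMap.congr_fun h x
    have h2 : P.coroot a x = P.coroot b x := h1
    rw [split_apply, map_add, map_add, h2, (mem_half P).1 y.2 a (by simp), (mem_half P).1 y.2 b (by simp)]⟩
  root_coroot_two a := by
    have := P.root_coroot_two a
    rw [hP] at this
    exact this
  reflectionPerm a := Equiv.Perm.subtypePerm (P.reflectionPerm a) fun c => by
    rw [← mem_iff P hP hI hsc, ← mem_iff P hP hI hsc, ← P.reflectionPerm_root a c]
    refine ⟨fun h => ?_, fun h => (half P I).sub_mem h ((half P I).smul_mem _ (root_mem P hP hI a.2))⟩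
    have := (half P I).add_mem h ((half P I).smul_mem (P.toLinearMap (P.root c) (P.coroot a)) (root_mem P hP hI a.2))
    rwa [sub_add_cancel] at this
  reflectionPerm_root a c := by
    have := P.reflectionPerm_root a c
    rw [hP] at this
    exact Subtype.ext this
  reflectionPerm_coroot a c := by
    have := P.reflectionPerm_coroot a c
    rw [hP] at this
    refine LinearMap.ext fun m => ?_
    exact LinearMap.congr_fun this m

@[simp]
theorem coe_root_sub (a : I) : ((sub P hP hI hsc).root a : M) = P.root a := rfl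

@[simp]
theorem coroot_sub_apply (a : I) (m : half P I) : (sub P hP hI hsc).coroot a m = P.coroot a m := rfl

theorem isReduced_sub (hred : P.IsReduced) : (sub P hP hI hsc).IsReduced := by
  refine ⟨fun a b h => ?_⟩
  have h' : ¬ LinearIndependent ℤ ![P.root a, P.root b] := by
    intro h1
    apply h
    have h2 : (half P I).subtype ∘ ![(sub P hP hI hsc).root a, (sub P hP hI hsc).root b] =
        ![P.root a, P.root b] := by
      funext i
      fin_cases i <;> rfl
    refine LinearIndependent.of_comp (half P I).subtype ?_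
    rw [h2]
    exact h1
  rcases hred.eq_or_eq_neg a b h' with h1 | h1
  · exact Or.inl (Subtype.ext h1)
  · exact Or.inr (Subtype.ext h1)

theorem span_coroot_sub : Submodule.span ℤ (Set.range (sub P hP hI hsc).coroot) = ⊤ := by
  rw [eq_top_iff]
  rintro x -
  let pr : M →ₗ[ℤ] half P I := (LinearMap.fst ℤ (half P I) (half P Iᶜ)).comp (split P hP hI hsc).symm.toLinearMap
  have hpr : ∀ m : half P I, pr m = m := by
    intro m
    have : (split P hP hI hsc).symm (m : M) = (m, 0) := by
      rw [LinearEquiv.symm_apply_eq, split_apply]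
      simp
    change ((split P hP hI hsc).symm (m : M)).1 = m
    rw [this]
  have h1 : x.comp pr ∈ Submodule.span ℤ (Set.range P.coroot) := by rw [hsc]; trivial
  have h2 : ∀ y ∈ Submodule.span ℤ (Set.range P.coroot), y.comp (half P I).subtype ∈
      Submodule.span ℤ (Set.range (sub P hP hI hsc).coroot) := by
    intro y hy
    induction hy using Submodule.span_induction with
    | mem y hy =>
      obtain ⟨a, rfl⟩ := hy
      by_cases ha : a ∈ I
      · exact Submodule.subset_span ⟨⟨a, ha⟩, rfl⟩
      · have : (P.coroot a).comp (half P I).subtype = 0 := LinearMap.ext fun m => (mem_half P).1 m.2 a ha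
        rw [this]
        exact Submodule.zero_mem _
    | zero => rw [LinearMap.zero_comp]; exact Submodule.zero_mem _
    | add y z _ _ hy hz => rw [LinearMap.add_comp]; exact Submodule.add_mem _ hy hz
    | smul r y _ hy => rw [LinearMap.smul_comp]; exact Submodule.smul_mem _ _ hy
  have h3 := h2 _ h1
  have h4 : (x.comp pr).comp (half P I).subtype = x := LinearMap.ext fun m => by
    change x (pr m) = x m
    rw [hpr]
  rwa [h4] at h3

end half

section main

variable {σ M : Type} [Fintype σ] [AddCommGroup M] [Module.Finite ℤ M] [Module.Free ℤ M]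
  (P : RootPairing σ ℤ M (Module.Dual ℤ M)) (hP : P.toLinearMap = Module.Dual.eval ℤ M)
  (hsc : Submodule.span ℤ (Set.range P.coroot) = ⊤) {I : Set σ}
  (hI : ∀ a b, a ∈ I → b ∉ I → P.pairing a b = 0)

open scoped Classical in
/-- The equivalence with the direct sum. -/
noncomputable def equiv : RootPairing.Equiv P
    (prodPairing (sub P hP hI hsc) (sub P hP (hI' P hI) hsc) rfl rfl) where
  weightMap := (split P hP hI hsc).symm.toLinearMap
  coweightMap := (split P hP hI hsc).symm.toLinearMap.dualMap
  indexEquiv := (Equiv.Set.sumCompl I).symm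
  weight_coweight_transpose := by
    refine LinearMap.ext fun x => LinearMap.ext fun m => ?_
    change x ((split P hP hI hsc).symm m) = P.toLinearMap m (x.comp (split P hP hI hsc).symm.toLinearMap)
    rw [hP]
    rfl
  root_weightMap := by
    funext a
    obtain ⟨a, rfl⟩ := (Equiv.Set.sumCompl I).surjective a
    change (split P hP hI hsc).symm (P.root (Equiv.Set.sumCompl I a)) =
      prodRoot _ _ ((Equiv.Set.sumCompl I).symm (Equiv.Set.sumCompl I a))
    rw [Equiv.symm_apply_apply, LinearEquiv.symm_apply_eq, split_apply]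
    rcases a with a | b
    · simp
    · simp
  coroot_coweightMap := by
    funext a
    refine LinearMap.ext fun m => ?_
    obtain ⟨x, rfl⟩ := (split P hP hI hsc).surjective m
    change prodCoroot _ _ a ((split P hP hI hsc).symm (split P hP hI hsc x)) =
      P.coroot (Equiv.Set.sumCompl I a) (split P hP hI hsc x)
    rw [LinearEquiv.symm_apply_apply, split_apply, map_add]
    rcases a with a | b
    · simp [(mem_half P).1 x.2.2 a (by simp)]
    · simp [(mem_half P).1 x.1.2 b b.2]
  bijective_weightMap := (split P hP hI hsc).symm.bijective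
  bijective_coweightMap := (split P hP hI hsc).symm.dualMap.bijective

end main

/-- NODE A. -/
theorem nodeA {σ M : Type} [Fintype σ] [AddCommGroup M] [Module.Finite ℤ M] [Module.Free ℤ M]
    (P : RootPairing σ ℤ M (Module.Dual ℤ M)) (hP : P.toLinearMap = Module.Dual.eval ℤ M)
    (hsc : Submodule.span ℤ (Set.range P.coroot) = ⊤) (hred : P.IsReduced) (I : Set σ)
    (hI : ∀ a b, a ∈ I → b ∉ I → P.pairing a b = 0) :
    ∃ (M₁ M₂ : Type) (_ : AddCommGroup M₁) (_ : AddCommGroup M₂) (_ : Module.Finite ℤ M₁) (_ : Module.Free ℤ M₁)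
      (_ : Module.Finite ℤ M₂) (_ : Module.Free ℤ M₂)
      (P₁ : RootPairing I ℤ M₁ (Module.Dual ℤ M₁)) (P₂ : RootPairing (Iᶜ : Set σ) ℤ M₂ (Module.Dual ℤ M₂))
      (h₁ : P₁.toLinearMap = Module.Dual.eval ℤ M₁) (h₂ : P₂.toLinearMap = Module.Dual.eval ℤ M₂),
      P₁.IsReduced ∧ P₂.IsReduced ∧
      Submodule.span ℤ (Set.range P₁.coroot) = ⊤ ∧ Submodule.span ℤ (Set.range P₂.coroot) = ⊤ ∧
      Nonempty (RootPairing.Equiv P (prodPairing P₁ P₂ h₁ h₂)) :=
  ⟨half P I, half P Iᶜ, inferInstance, inferInstance, inferInstance, inferInstance, inferInstance, inferInstance,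
    sub P hP hI hsc, sub P hP (hI' P hI) hsc, rfl, rfl, isReduced_sub P hP hI hsc hred,
    isReduced_sub P hP (hI' P hI) hsc hred, span_coroot_sub P hP hI hsc, span_coroot_sub P hP (hI' P hI) hsc,
    ⟨equiv P hP hsc hI⟩⟩


end K332.DecDatum
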